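import Groth.Agent.Lib.RelFPSch6.Basic
import Groth.Agent.Lib.QCoh.PullbackSections
import Groth.Agent.Lib.QCoh.Extension
import Groth.Agent.Lib.FittSheaf.Basic
import Groth.Agent.Lib.FittSheaf.Pullback
import Mathlib.AlgebraicGeometry.Morphisms.Flat

/-!
# Relative finite presentation on schemes: permanence properties
-/

set_option autoImplicit false
set_option linter.style.haveILetI false

universe u

open CategoryTheory CategoryTheory.Limits AlgebraicGeometry Opposite TopologicalSpace TensorProduct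

namespace GrothLib.RelFPSch6

variable {X Y S : Scheme.{u}}

theorem exists_affine_le {Z : Scheme.{u}} (z : Z) (W : Z.Opens) (hz : z ∈ W) :
    ∃ U : Z.affineOpens, z ∈ (U : Z.Opens) ∧ (U : Z.Opens) ≤ W := by
  obtain ⟨_, ⟨U, hU, rfl⟩, hzU, hle⟩ := Z.isBasis_affineOpens.exists_subset_of_mem_open hz W.isOpen
  exact ⟨⟨U, hU⟩, hzU, hle⟩

/-- Sections of the pullback on affine opens as a base change, packaged. -/
theorem exists_isBaseChange_pullback (g : Y ⟶ X) (F : X.Modules) [F.IsQuasicoherent]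
    {U : X.Opens} {P : Y.Opens} (hU : IsAffineOpen U) (hP : IsAffineOpen P) (e : P ≤ g ⁻¹ᵁ U)
    [Algebra Γ(X, U) Γ(Y, P)] (halg : algebraMap Γ(X, U) Γ(Y, P) = (g.appLE U P e).hom)
    [Module Γ(X, U) Γ((Scheme.Modules.pullback g).obj F, P)]
    [IsScalarTower Γ(X, U) Γ(Y, P) Γ((Scheme.Modules.pullback g).obj F, P)] :
    ∃ l : Γ(F, U) →ₗ[Γ(X, U)] Γ((Scheme.Modules.pullback g).obj F, P), IsBaseChange Γ(Y, P) l := by
  let E := LinearEquiv.ofBijective _ (QCoh.bijective_sectionsMap g F e halg hU hP)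
  refine ⟨(E.toLinearMap.restrictScalars Γ(X, U)).comp (TensorProduct.mk Γ(X, U) Γ(Y, P) Γ(F, U) 1), ?_⟩
  exact IsBaseChange.of_equiv E fun x => rfl

theorem baseChange_sch {X' S' : Scheme.{u}} (f : X ⟶ S) [LocallyOfFiniteType f] (F : X.Modules)
    [F.IsQuasicoherent] (g : S' ⟶ S) (f' : X' ⟶ S') (g' : X' ⟶ X) (hc : IsPullback g' f' f g)
    (hF : Flatn.IsRelFP f F) : Flatn.IsRelFP f' ((Scheme.Modules.pullback g').obj F) := by
  haveI : LocallyOfFiniteType f' := MorphismProperty.of_isPullback hc inferInstance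
  haveI : ((Scheme.Modules.pullback g').obj F).IsQuasicoherent := FittSheaf.isQuasicoherent_pullback g' F
  refine isRelFP_of_forall_at fun x => ?_
  obtain ⟨V, hxV, -⟩ := exists_affine_le (f (g' x)) ⊤ trivial
  have hgx : g (f' x) = f (g' x) := by
    rw [← Scheme.Hom.comp_apply, ← Scheme.Hom.comp_apply, hc.w]
  obtain ⟨U, hxU, hUV⟩ := exists_affine_le (g' x) (f ⁻¹ᵁ (V : S.Opens)) hxV
  obtain ⟨V', hxV', hV'V⟩ := exists_affine_le (f' x) (g ⁻¹ᵁ (V : S.Opens))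
    (show g (f' x) ∈ (V : S.Opens) by rw [hgx]; exact hxV)
  let P : X'.Opens := g' ⁻¹ᵁ (U : X.Opens) ⊓ f' ⁻¹ᵁ (V' : S'.Opens)
  haveI : IsAffine (U : X.Opens).toScheme := U.2
  haveI : IsAffine (V : S.Opens).toScheme := V.2
  haveI : IsAffine (V' : S'.Opens).toScheme := V'.2
  have hP : IsAffineOpen P :=
    .of_isIso (Scheme.Hom.isPullback_resLE hc hV'V hUV (rfl : P = _)).isoPullback.hom
  refine ⟨⟨P, hP⟩, V', inf_le_right, ⟨hxU, hxV'⟩, ?_⟩
  have hpo := (isIso_pushoutSection_iff hc hV'V hUV (rfl : P = _)).1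
    (isIso_pushoutSection_of_isAffineOpen hc hV'V hUV rfl V.2 V'.2 U.2)
  have hFU := isRelFP_iff_forall.1 hF U V hUV
  rw [Flatn.relFPOn_iff] at hFU ⊢
  letI := (f.appLE V U hUV).hom.toAlgebra
  letI := (g.appLE V V' hV'V).hom.toAlgebra
  letI := (g'.appLE U P inf_le_left).hom.toAlgebra
  letI := (f'.appLE V' P inf_le_right).hom.toAlgebra
  letI : Algebra Γ(S, (V : S.Opens)) Γ(X', P) :=
    ((g'.appLE U P inf_le_left).hom.comp (f.appLE V U hUV).hom).toAlgebra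
  haveI : IsScalarTower Γ(S, (V : S.Opens)) Γ(X, (U : X.Opens)) Γ(X', P) :=
    IsScalarTower.of_algebraMap_eq fun _ => rfl
  haveI : IsScalarTower Γ(S, (V : S.Opens)) Γ(S', (V' : S'.Opens)) Γ(X', P) :=
    IsScalarTower.of_algebraMap_eq' (congrArg CommRingCat.Hom.hom hpo.w)
  haveI : Algebra.IsPushout Γ(S, (V : S.Opens)) Γ(X, (U : X.Opens)) Γ(S', (V' : S'.Opens)) Γ(X', P) :=
    CommRingCat.isPushout_iff_isPushout.mp hpo
  letI : Module Γ(X, (U : X.Opens)) Γ((Scheme.Modules.pullback g').obj F, P) :=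
    Module.compHom _ (algebraMap Γ(X, (U : X.Opens)) Γ(X', P))
  haveI : IsScalarTower Γ(X, (U : X.Opens)) Γ(X', P) Γ((Scheme.Modules.pullback g').obj F, P) :=
    IsScalarTower.of_algebraMap_smul fun _ _ => rfl
  obtain ⟨l, hl⟩ := exists_isBaseChange_pullback g' F U.2 hP inf_le_left rfl
  show FlatCA.RelFinitePresentation Γ(S', (V' : S'.Opens)) Γ(X', P) Γ((Scheme.Modules.pullback g').obj F, P)
  exact baseChange l hl hFU

theorem pullback_lfp (f : X ⟶ Y) (g : Y ⟶ S) [LocallyOfFinitePresentation f] [LocallyOfFiniteType g]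
    (G : Y.Modules) [G.IsQuasicoherent] (hG : Flatn.IsRelFP g G) :
    Flatn.IsRelFP (f ≫ g) ((Scheme.Modules.pullback f).obj G) := by
  haveI : ((Scheme.Modules.pullback f).obj G).IsQuasicoherent := FittSheaf.isQuasicoherent_pullback f G
  refine isRelFP_of_forall_at fun x => ?_
  obtain ⟨V, hxV, -⟩ := exists_affine_le (g (f x)) ⊤ trivial
  obtain ⟨U, hxU, hUV⟩ := exists_affine_le (f x) (g ⁻¹ᵁ (V : S.Opens)) hxV
  obtain ⟨P, hxP, hPU⟩ := exists_affine_le x (f ⁻¹ᵁ (U : Y.Opens)) hxU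
  refine ⟨P, V, hPU.trans (f.preimage_mono hUV), hxP, ?_⟩
  have hGU := isRelFP_iff_forall.1 hG U V hUV
  rw [Flatn.relFPOn_iff] at hGU ⊢
  letI := (g.appLE V U hUV).hom.toAlgebra
  letI := (f.appLE U P hPU).hom.toAlgebra
  letI := ((f ≫ g).appLE V P (hPU.trans (f.preimage_mono hUV))).hom.toAlgebra
  haveI : IsScalarTower Γ(S, (V : S.Opens)) Γ(Y, (U : Y.Opens)) Γ(X, (P : X.Opens)) :=
    IsScalarTower.of_algebraMap_eq' (by
      show ((f ≫ g).appLE V P _).hom = (g.appLE V U hUV ≫ f.appLE U P hPU).hom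
      rw [Scheme.Hom.appLE_comp_appLE])
  haveI : Algebra.FinitePresentation Γ(Y, (U : Y.Opens)) Γ(X, (P : X.Opens)) :=
    f.finitePresentation_appLE U.2 P.2 hPU
  letI : Module Γ(Y, (U : Y.Opens)) Γ((Scheme.Modules.pullback f).obj G, (P : X.Opens)) :=
    Module.compHom _ (algebraMap Γ(Y, (U : Y.Opens)) Γ(X, (P : X.Opens)))
  haveI : IsScalarTower Γ(Y, (U : Y.Opens)) Γ(X, (P : X.Opens))
      Γ((Scheme.Modules.pullback f).obj G, (P : X.Opens)) := IsScalarTower.of_algebraMap_smul fun _ _ => rfl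
  obtain ⟨l, hl⟩ := exists_isBaseChange_pullback f G U.2 P.2 hPU rfl
  show FlatCA.RelFinitePresentation Γ(S, (V : S.Opens)) Γ(X, (P : X.Opens))
    Γ((Scheme.Modules.pullback f).obj G, (P : X.Opens))
  exact extendAlgebra l hl hGU

theorem comp_lfp (f : X ⟶ Y) (g : Y ⟶ S) [LocallyOfFiniteType f] [LocallyOfFinitePresentation g]
    (F : X.Modules) [F.IsQuasicoherent] (hF : Flatn.IsRelFP f F) : Flatn.IsRelFP (f ≫ g) F := by
  refine isRelFP_of_forall_at fun x => ?_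
  obtain ⟨V, hxV, -⟩ := exists_affine_le (g (f x)) ⊤ trivial
  obtain ⟨U, hxU, hUV⟩ := exists_affine_le (f x) (g ⁻¹ᵁ (V : S.Opens)) hxV
  obtain ⟨P, hxP, hPU⟩ := exists_affine_le x (f ⁻¹ᵁ (U : Y.Opens)) hxU
  refine ⟨P, V, hPU.trans (f.preimage_mono hUV), hxP, ?_⟩
  have hFU := isRelFP_iff_forall.1 hF P U hPU
  rw [Flatn.relFPOn_iff] at hFU ⊢
  letI := (g.appLE V U hUV).hom.toAlgebra
  letI := (f.appLE U P hPU).hom.toAlgebra
  letI := ((f ≫ g).appLE V P (hPU.trans (f.preimage_mono hUV))).hom.toAlgebra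
  haveI : IsScalarTower Γ(S, (V : S.Opens)) Γ(Y, (U : Y.Opens)) Γ(X, (P : X.Opens)) :=
    IsScalarTower.of_algebraMap_eq' (by
      show ((f ≫ g).appLE V P _).hom = (g.appLE V U hUV ≫ f.appLE U P hPU).hom
      rw [Scheme.Hom.appLE_comp_appLE])
  haveI : Algebra.FinitePresentation Γ(S, (V : S.Opens)) Γ(Y, (U : Y.Opens)) :=
    g.finitePresentation_appLE V.2 U.2 hUV
  exact restrictBase (R' := Γ(Y, (U : Y.Opens))) hFU

theorem extremes (f : X ⟶ S) [LocallyOfFiniteType f] (E : ShortComplex X.Modules) (hE : E.ShortExact)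
    [E.X₁.IsQuasicoherent] [E.X₂.IsQuasicoherent] [E.X₃.IsQuasicoherent]
    (h₁ : Flatn.IsRelFP f E.X₁) (h₃ : Flatn.IsRelFP f E.X₃) : Flatn.IsRelFP f E.X₂ := by
  refine isRelFP_of_forall fun U V h => ?_
  have a₁ := isRelFP_iff_forall.1 h₁ U V h
  have a₃ := isRelFP_iff_forall.1 h₃ U V h
  rw [Flatn.relFPOn_iff] at a₁ a₃ ⊢
  letI := (f.appLE V U h).hom.toAlgebra
  refine of_extension (QCoh.appLinear E.f U) (QCoh.appLinear E.g U) (QCoh.app_injective hE U)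
    (fun b => ⟨fun hb => QCoh.app_exact hE U b hb, ?_⟩) (QCoh.app_surjective_of_isAffineOpen hE U.2) a₁ a₃
  rintro ⟨a, rfl⟩
  exact QCoh.app_comp_zero (S := E) U a

theorem finiteType_sub (f : X ⟶ S) [LocallyOfFiniteType f] (E : ShortComplex X.Modules) (hE : E.ShortExact)
    [E.X₁.IsQuasicoherent] [E.X₂.IsQuasicoherent] [E.X₃.IsQuasicoherent]
    (h₁ : CohB1.IsFT E.X₁) (h₂ : Flatn.IsRelFP f E.X₂) : Flatn.IsRelFP f E.X₃ := by
  refine isRelFP_of_forall fun U V h => ?_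
  have a₂ := isRelFP_iff_forall.1 h₂ U V h
  rw [Flatn.relFPOn_iff] at a₂ ⊢
  letI := (f.appLE V U h).hom.toAlgebra
  haveI : Module.Finite Γ(X, (U : X.Opens)) Γ(E.X₁, (U : X.Opens)) := FittSheaf.finite_sections h₁ U
  refine of_finite_sub (QCoh.appLinear E.f U) (QCoh.appLinear E.g U)
    (fun b => ⟨fun hb => QCoh.app_exact hE U b hb, ?_⟩) (QCoh.app_surjective_of_isAffineOpen hE U.2) a₂
  rintro ⟨a, rfl⟩
  exact QCoh.app_comp_zero (S := E) U a

theorem summand (f : X ⟶ S) [LocallyOfFiniteType f] {F G H : X.Modules} [F.IsQuasicoherent]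
    [G.IsQuasicoherent] [H.IsQuasicoherent] (i : G ⟶ F) (p : F ⟶ H) (r : F ⟶ G) (s : H ⟶ F)
    (hir : i ≫ r = 𝟙 G) (hsp : s ≫ p = 𝟙 H) (hip : i ≫ p = 0) (hsum : r ≫ i + p ≫ s = 𝟙 F)
    (hF : Flatn.IsRelFP f F) : Flatn.IsRelFP f H := by
  refine isRelFP_of_forall fun U V h => ?_
  have a₂ := isRelFP_iff_forall.1 hF U V h
  rw [Flatn.relFPOn_iff] at a₂ ⊢
  letI := (f.appLE V U h).hom.toAlgebra
  obtain ⟨n, φ, hφ, hfp⟩ := a₂
  refine ⟨n, φ, hφ, ?_⟩
  letI := Module.compHom (Γ(F, (U : X.Opens))) φ.toRingHom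
  letI := Module.compHom (Γ(G, (U : X.Opens))) φ.toRingHom
  letI := Module.compHom (Γ(H, (U : X.Opens))) φ.toRingHom
  haveI : Module.FinitePresentation (MvPolynomial (Fin n) Γ(S, (V : S.Opens))) Γ(F, (U : X.Opens)) := hfp
  let p' : Γ(F, (U : X.Opens)) →ₗ[MvPolynomial (Fin n) Γ(S, (V : S.Opens))] Γ(H, (U : X.Opens)) :=
    { (QCoh.appLinear p U).toAddMonoidHom with map_smul' := fun t m => (QCoh.appLinear p U).map_smul (φ t) m }
  let ir : Γ(F, (U : X.Opens)) →ₗ[MvPolynomial (Fin n) Γ(S, (V : S.Opens))] Γ(F, (U : X.Opens)) :=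
    { (QCoh.appLinear (r ≫ i) U).toAddMonoidHom with
      map_smul' := fun t m => (QCoh.appLinear (r ≫ i) U).map_smul (φ t) m }
  show @Module.FinitePresentation (MvPolynomial (Fin n) Γ(S, (V : S.Opens))) Γ(H, (U : X.Opens)) _ _ _
  refine Module.finitePresentation_of_surjective p' ?_ ?_
  · intro y
    refine ⟨s.app U y, ?_⟩
    show (s ≫ p).app U y = y
    rw [hsp]; rfl
  · rw [show LinearMap.ker p' = LinearMap.range ir from ?_]
    · exact Submodule.fg_range ir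
    refine le_antisymm ?_ ?_
    · intro y hy
      refine ⟨y, ?_⟩
      have e : (r ≫ i + p ≫ s).app U y = (𝟙 F : F ⟶ F).app U y := by rw [hsum]
      have hy' : p.app U y = 0 := hy
      have e2 : (p ≫ s).app U y = 0 := by
        show s.app U (p.app U y) = 0
        rw [hy', map_zero]
      rw [Scheme.Modules.Hom.add_app] at e
      have : (r ≫ i).app U y + (p ≫ s).app U y = y := e
      rw [e2, add_zero] at this
      exact this
    · rintro _ ⟨y, rfl⟩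
      show p.app U ((r ≫ i).app U y) = 0
      have : ((r ≫ i) ≫ p).app U y = 0 := by
        rw [Category.assoc, hip, comp_zero, Scheme.Modules.Hom.zero_app]; rfl
      exact this

theorem push_finite (π : X ⟶ Y) (g : Y ⟶ S) [IsFinite π] [LocallyOfFiniteType g]
    (F : X.Modules) [F.IsQuasicoherent] :
    Flatn.IsRelFP (π ≫ g) F ↔ Flatn.IsRelFP g ((Coh.push π).obj F) := by
  have key : ∀ (U : Y.affineOpens) (V : S.affineOpens) (h : (U : Y.Opens) ≤ g ⁻¹ᵁ (V : S.Opens)),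
      Flatn.RelFPOn g ((Coh.push π).obj F) U V h ↔
        Flatn.RelFPOn (π ≫ g) F ⟨π ⁻¹ᵁ (U : Y.Opens), U.2.preimage π⟩ V (π.preimage_mono h) := by
    intro U V h
    rw [Flatn.relFPOn_iff, Flatn.relFPOn_iff]
    letI := (g.appLE V U h).hom.toAlgebra
    letI := ((π ≫ g).appLE V (π ⁻¹ᵁ (U : Y.Opens)) (π.preimage_mono h)).hom.toAlgebra
    letI := (π.app (U : Y.Opens)).hom.toAlgebra
    haveI : IsScalarTower Γ(S, (V : S.Opens)) Γ(Y, (U : Y.Opens)) Γ(X, π ⁻¹ᵁ (U : Y.Opens)) :=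
      IsScalarTower.of_algebraMap_eq' (by
        show ((π ≫ g).appLE V (π ⁻¹ᵁ (U : Y.Opens)) _).hom = (g.appLE V U h ≫ π.app U).hom
        rw [Scheme.Hom.app_eq_appLE, Scheme.Hom.appLE_comp_appLE])
    haveI : Algebra.FiniteType Γ(S, (V : S.Opens)) Γ(Y, (U : Y.Opens)) := g.finiteType_appLE V.2 U.2 h
    haveI : Module.Finite Γ(Y, (U : Y.Opens)) Γ(X, π ⁻¹ᵁ (U : Y.Opens)) := π.finite_app _ U.2
    letI : Module Γ(X, π ⁻¹ᵁ (U : Y.Opens)) Γ((Coh.push π).obj F, (U : Y.Opens)) :=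
      inferInstanceAs (Module Γ(X, π ⁻¹ᵁ (U : Y.Opens)) Γ(F, π ⁻¹ᵁ (U : Y.Opens)))
    haveI : IsScalarTower Γ(Y, (U : Y.Opens)) Γ(X, π ⁻¹ᵁ (U : Y.Opens))
        Γ((Coh.push π).obj F, (U : Y.Opens)) := IsScalarTower.of_algebraMap_smul fun _ _ => rfl
    show FlatCA.RelFinitePresentation Γ(S, (V : S.Opens)) Γ(Y, (U : Y.Opens)) Γ((Coh.push π).obj F, (U : Y.Opens)) ↔
      FlatCA.RelFinitePresentation Γ(S, (V : S.Opens)) Γ(X, π ⁻¹ᵁ (U : Y.Opens)) Γ((Coh.push π).obj F, (U : Y.Opens))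
    exact iff_finite (A := Γ(Y, (U : Y.Opens))) (B := Γ(X, π ⁻¹ᵁ (U : Y.Opens)))
  constructor
  · intro hF
    exact isRelFP_of_forall fun U V h => (key U V h).2 (isRelFP_iff_forall.1 hF _ V _)
  · intro hG
    haveI := QCoh.isQuasicoherent_pushforward π F
    refine isRelFP_of_forall_at fun x => ?_
    obtain ⟨V, hxV, -⟩ := exists_affine_le (g (π x)) ⊤ trivial
    obtain ⟨U, hxU, hUV⟩ := exists_affine_le (π x) (g ⁻¹ᵁ (V : S.Opens)) hxV
    exact ⟨⟨π ⁻¹ᵁ (U : Y.Opens), U.2.preimage π⟩, V, π.preimage_mono hUV, hxU,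
      (key U V hUV).1 (isRelFP_iff_forall.1 hG U V hUV)⟩

end GrothLib.RelFPSch6
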