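import Groth.Prelude.Def_FlatCA
import Groth.Agent.Lib.RelFP19.Basic
import Groth.Agent.S12083
import Groth.Agent.S6992
import Groth.Agent.S6993
import Groth.Agent.S7007

/-!
# Permanence properties of the ring-level relative finite presentation
-/

set_option autoImplicit false
set_option linter.style.haveILetI false

universe u

open TensorProduct GrothLib.CAlgMisc

namespace GrothLib.RelFPSch6

variable {R A : Type u} [CommRing R] [CommRing A] [Algebra R A] {M : Type u} [AddCommGroup M]
  [Module A M]

theorem finiteType (h : FlatCA.RelFinitePresentation R A M) : Algebra.FiniteType R A :=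
  let ⟨_, φ, hφ, _⟩ := h
  Algebra.FiniteType.of_surjective φ hφ

/-- Every presentation detects relative finite presentation. -/
theorem fpVia (h : FlatCA.RelFinitePresentation R A M) {k : ℕ}
    (β : MvPolynomial (Fin k) R →ₐ[R] A) (hβ : Function.Surjective β) : FPVia β.toRingHom M := by
  obtain ⟨n, φ, hφ, hfp⟩ := h
  exact (fpVia_iff_of_surjective φ hφ β hβ).1 hfp

theorem of_equiv {M' : Type u} [AddCommGroup M'] [Module A M'] (e : M ≃ₗ[A] M')
    (h : FlatCA.RelFinitePresentation R A M) : FlatCA.RelFinitePresentation R A M' :=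
  let ⟨n, φ, hφ, hfp⟩ := h
  ⟨n, φ, hφ, RelFP19.fpVia_of_equiv _ e hfp⟩

/-- Relative finite presentation is stable under base change. -/
theorem baseChange {R' A' : Type u} [CommRing R'] [CommRing A'] [Algebra R R'] [Algebra A A']
    [Algebra R' A'] [Algebra R A'] [IsScalarTower R A A'] [IsScalarTower R R' A']
    [Algebra.IsPushout R A R' A'] {M' : Type u} [AddCommGroup M'] [Module A M'] [Module A' M']
    [IsScalarTower A A' M'] (l : M →ₗ[A] M') (hl : IsBaseChange A' l)
    (h : FlatCA.RelFinitePresentation R A M) : FlatCA.RelFinitePresentation R' A' M' := by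
  obtain ⟨n, α, hα, hfp⟩ := h
  haveI : Algebra.FiniteType R A := Algebra.FiniteType.of_surjective α hα
  haveI := Algebra.IsPushout.symm (show Algebra.IsPushout R A R' A' from inferInstance)
  haveI : Algebra.FiniteType R' A' :=
    (inferInstance : Algebra.FiniteType R' (R' ⊗[R] A)).equiv (Algebra.IsPushout.equiv R R' A A')
  obtain ⟨k, γ, hγ⟩ := Algebra.FiniteType.iff_quotient_mvPolynomial''.1
    (inferInstance : Algebra.FiniteType R' A')
  exact ⟨k, γ, hγ, RelFP19.fpVia_of_equiv _ hl.equiv (Groth.Agent.S12083.result M α hα hfp γ hγ)⟩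

/-- Relative finite presentation over a finitely presented algebra over the base descends to the base. -/
theorem restrictBase {R' : Type u} [CommRing R'] [Algebra R R'] [Algebra R' A] [IsScalarTower R R' A]
    [Algebra.FinitePresentation R R'] (h : FlatCA.RelFinitePresentation R' A M) :
    FlatCA.RelFinitePresentation R A M := by
  obtain ⟨n, α, hα, hfp⟩ := h
  haveI : Algebra.FiniteType R' A := Algebra.FiniteType.of_surjective α hα
  haveI : Algebra.FiniteType R A := Algebra.FiniteType.trans (S := R') inferInstance inferInstance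
  obtain ⟨k, β, hβ⟩ := Algebra.FiniteType.iff_quotient_mvPolynomial''.1
    (inferInstance : Algebra.FiniteType R A)
  exact ⟨k, β, hβ, Groth.Agent.S6993.result M α hα β hβ hfp⟩

/-- Relative finite presentation is preserved by finitely presented extensions of the algebra. -/
theorem extendAlgebra {A' : Type u} [CommRing A'] [Algebra A A'] [Algebra R A'] [IsScalarTower R A A']
    [Algebra.FinitePresentation A A'] {M' : Type u} [AddCommGroup M'] [Module A M'] [Module A' M']
    [IsScalarTower A A' M'] (l : M →ₗ[A] M') (hl : IsBaseChange A' l)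
    (h : FlatCA.RelFinitePresentation R A M) : FlatCA.RelFinitePresentation R A' M' := by
  obtain ⟨n, α, hα, hfp⟩ := h
  obtain ⟨N, φ, hφ, hcomp, hfp'⟩ :=
    RelFP19.exists_fpVia_tensor_of_finitePresentation (A' := A') α.toRingHom hα hfp
  haveI : Algebra.FinitePresentation R (MvPolynomial (Fin N) (MvPolynomial (Fin n) R)) :=
    Algebra.FinitePresentation.trans R (MvPolynomial (Fin n) R) _
  let φ' : MvPolynomial (Fin N) (MvPolynomial (Fin n) R) →ₐ[R] A' :=
    { φ with
      commutes' := fun r => by
        show φ (MvPolynomial.C (MvPolynomial.C r)) = _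
        rw [hcomp, show α.toRingHom (MvPolynomial.C r) = algebraMap R A r from α.commutes r,
          ← IsScalarTower.algebraMap_apply] }
  haveI : Algebra.FiniteType R A' := Algebra.FiniteType.of_surjective φ' hφ
  obtain ⟨k, γ, hγ⟩ := Algebra.FiniteType.iff_quotient_mvPolynomial''.1
    (inferInstance : Algebra.FiniteType R A')
  exact ⟨k, γ, hγ, RelFP19.fpVia_of_equiv _ hl.equiv
    ((RelFP19.fpVia_iff_of_finitePresentation φ' hφ γ hγ).1 hfp')⟩

/-- Relative finite presentation is local on the algebra. -/
theorem of_cover [Algebra.FiniteType R A] {r : ℕ} (f : Fin r → A)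
    (hf : Ideal.span (Set.range f) = ⊤) (L : Fin r → Type u) [∀ i, CommRing (L i)]
    [∀ i, Algebra A (L i)] [∀ i, Algebra R (L i)] [∀ i, IsScalarTower R A (L i)]
    [∀ i, IsLocalization.Away (f i) (L i)] (M' : Fin r → Type u) [∀ i, AddCommGroup (M' i)]
    [∀ i, Module A (M' i)] [∀ i, Module (L i) (M' i)] [∀ i, IsScalarTower A (L i) (M' i)]
    (l : ∀ i, M →ₗ[A] M' i) [∀ i, IsLocalizedModule (Submonoid.powers (f i)) (l i)]
    (h : ∀ i, FlatCA.RelFinitePresentation R (L i) (M' i)) : FlatCA.RelFinitePresentation R A M := by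
  obtain ⟨n, α, hα⟩ := Algebra.FiniteType.iff_quotient_mvPolynomial''.1
    (inferInstance : Algebra.FiniteType R A)
  have hloc : ∀ i, FlatCA.RelFinitePresentation R (Localization.Away (f i))
      (LocalizedModule (Submonoid.powers (f i)) M) := by
    intro i
    let e : L i ≃ₐ[A] Localization.Away (f i) :=
      IsLocalization.algEquiv (Submonoid.powers (f i)) (L i) (Localization.Away (f i))
    let σ : M' i ≃ₗ[A] LocalizedModule (Submonoid.powers (f i)) M :=
      (IsLocalizedModule.iso (Submonoid.powers (f i)) (l i)).symm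
    have hσ : ∀ (a : L i) (m : M' i), σ (a • m) = e a • σ m := by
      intro a m
      obtain ⟨x, s, rfl⟩ := IsLocalization.exists_mk'_eq (Submonoid.powers (f i)) a
      have hu := (Module.End.isUnit_iff _).1 (IsLocalizedModule.map_units
        (LocalizedModule.mkLinearMap (Submonoid.powers (f i)) M) s)
      refine hu.1 (show (s : A) • σ (IsLocalization.mk' (L i) x s • m) =
        (s : A) • (e (IsLocalization.mk' (L i) x s) • σ m) from ?_)
      rw [← σ.map_smul, ← smul_assoc, ← smul_assoc, ← map_smul e, Algebra.smul_def,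
        IsLocalization.mk'_spec', AlgEquiv.commutes, algebraMap_smul, algebraMap_smul, σ.map_smul]
    obtain ⟨k, φ, hφ, hfp⟩ := h i
    refine ⟨k, (e.restrictScalars R).toAlgHom.comp φ, e.surjective.comp hφ, ?_⟩
    let ψ : MvPolynomial (Fin k) R →ₐ[R] Localization.Away (f i) :=
      (e.restrictScalars R).toAlgHom.comp φ
    letI := Module.compHom (M' i) φ.toRingHom
    letI := Module.compHom (LocalizedModule (Submonoid.powers (f i)) M) ψ.toRingHom
    haveI : Module.FinitePresentation (MvPolynomial (Fin k) R) (M' i) := hfp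
    exact Module.FinitePresentation.of_equiv
      { σ.toAddEquiv with map_smul' := fun t m => hσ (φ t) m }
  refine ⟨n, α, hα, ?_⟩
  choose k γ hγ hfp using hloc
  exact (Groth.Agent.S7007.result α hα M f hf k γ hγ).2 hfp

/-- Extensions of relatively finitely presented modules. -/
theorem of_extension {M₁ M₃ : Type u} [AddCommGroup M₁] [AddCommGroup M₃] [Module A M₁] [Module A M₃]
    (i : M₁ →ₗ[A] M) (p : M →ₗ[A] M₃) (hi : Function.Injective i) (hex : Function.Exact i p)
    (hp : Function.Surjective p) (h₁ : FlatCA.RelFinitePresentation R A M₁)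
    (h₃ : FlatCA.RelFinitePresentation R A M₃) : FlatCA.RelFinitePresentation R A M := by
  obtain ⟨n, φ, hφ, h₃'⟩ := h₃
  refine ⟨n, φ, hφ, ?_⟩
  have h₁' := fpVia h₁ φ hφ
  letI := Module.compHom M₁ φ.toRingHom
  letI := Module.compHom M φ.toRingHom
  letI := Module.compHom M₃ φ.toRingHom
  haveI : Module.FinitePresentation (MvPolynomial (Fin n) R) M₁ := h₁'
  haveI : Module.FinitePresentation (MvPolynomial (Fin n) R) M₃ := h₃'
  let i' : M₁ →ₗ[MvPolynomial (Fin n) R] M :=
    { i.toAddMonoidHom with map_smul' := fun t m => i.map_smul (φ t) m }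
  let p' : M →ₗ[MvPolynomial (Fin n) R] M₃ :=
    { p.toAddMonoidHom with map_smul' := fun t m => p.map_smul (φ t) m }
  haveI : Module.FinitePresentation (MvPolynomial (Fin n) R) (LinearMap.ker p') :=
    Module.FinitePresentation.of_equiv
      ((LinearEquiv.ofInjective i' hi).trans (LinearEquiv.ofEq _ _ (Function.Exact.linearMap_ker_eq
        (show Function.Exact i' p' from hex)).symm))
  exact Module.finitePresentation_of_ker p' hp

/-- Quotients by finite submodules. -/
theorem of_finite_sub {M₁ M₃ : Type u} [AddCommGroup M₁] [AddCommGroup M₃] [Module A M₁] [Module A M₃]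
    [Module.Finite A M₁]
    (i : M₁ →ₗ[A] M) (p : M →ₗ[A] M₃) (hex : Function.Exact i p)
    (hp : Function.Surjective p) (h : FlatCA.RelFinitePresentation R A M) :
    FlatCA.RelFinitePresentation R A M₃ := by
  obtain ⟨n, φ, hφ, h'⟩ := h
  refine ⟨n, φ, hφ, ?_⟩
  letI := Module.compHom M₁ φ.toRingHom
  letI := Module.compHom M φ.toRingHom
  letI := Module.compHom M₃ φ.toRingHom
  letI : Algebra (MvPolynomial (Fin n) R) A := φ.toRingHom.toAlgebra
  haveI : IsScalarTower (MvPolynomial (Fin n) R) A M₁ := IsScalarTower.of_algebraMap_smul fun _ _ => rfl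
  haveI : Module.Finite (MvPolynomial (Fin n) R) A := Module.Finite.of_surjective (Algebra.linearMap _ _) hφ
  haveI : Module.Finite (MvPolynomial (Fin n) R) M₁ := Module.Finite.trans A M₁
  haveI : Module.FinitePresentation (MvPolynomial (Fin n) R) M := h'
  let i' : M₁ →ₗ[MvPolynomial (Fin n) R] M :=
    { i.toAddMonoidHom with map_smul' := fun t m => i.map_smul (φ t) m }
  let p' : M →ₗ[MvPolynomial (Fin n) R] M₃ :=
    { p.toAddMonoidHom with map_smul' := fun t m => p.map_smul (φ t) m }
  refine Module.finitePresentation_of_surjective p' hp ?_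
  rw [Function.Exact.linearMap_ker_eq (show Function.Exact i' p' from hex)]
  exact Submodule.fg_range i'

/-- Finite extensions of the algebra. -/
theorem iff_finite {B : Type u} [CommRing B] [Algebra A B] [Algebra R B] [IsScalarTower R A B]
    [Algebra.FiniteType R A] [Module.Finite A B] {N : Type u} [AddCommGroup N] [Module A N]
    [Module B N] [IsScalarTower A B N] :
    FlatCA.RelFinitePresentation R A N ↔ FlatCA.RelFinitePresentation R B N := by
  haveI : Algebra.FiniteType A B := inferInstance
  haveI : Algebra.FiniteType R B := Algebra.FiniteType.trans (S := A) inferInstance inferInstance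
  obtain ⟨n, α, hα⟩ := Algebra.FiniteType.iff_quotient_mvPolynomial''.1
    (inferInstance : Algebra.FiniteType R A)
  obtain ⟨k, β, hβ⟩ := Algebra.FiniteType.iff_quotient_mvPolynomial''.1
    (inferInstance : Algebra.FiniteType R B)
  have key := Groth.Agent.S6992.result N α hα β hβ
  exact ⟨fun h => ⟨k, β, hβ, key.1 (fpVia h α hα)⟩, fun h => ⟨n, α, hα, key.2 (fpVia h β hβ)⟩⟩

end GrothLib.RelFPSch6
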