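import Groth.Prelude.Def_Flatn
import Groth.Prelude.Def_Coh
import Groth.Agent.Lib.RelFPSch6.Ring
import Groth.Agent.Lib.QCoh.Affine
import Groth.Agent.Lib.QCoh.Coherent

/-!
# Relative finite presentation on schemes: independence of the affine covers
-/

set_option autoImplicit false
set_option linter.style.haveILetI false

universe u

open CategoryTheory AlgebraicGeometry Opposite TopologicalSpace

namespace GrothLib.RelFPSch6

variable {X S : Scheme.{u}} {f : X ⟶ S} {F : X.Modules}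

/-- Restriction of sections to a smaller open, linear over the functions on the larger one. -/
noncomputable def secRes (F : X.Modules) {U W : X.Opens} (e : W ≤ U) [Algebra Γ(X, U) Γ(X, W)]
    [Module Γ(X, U) Γ(F, W)] [IsScalarTower Γ(X, U) Γ(X, W) Γ(F, W)]
    (h : algebraMap Γ(X, U) Γ(X, W) = (X.presheaf.map (homOfLE e).op).hom) :
    Γ(F, U) →ₗ[Γ(X, U)] Γ(F, W) where
  toFun := F.presheaf.map (homOfLE e).op
  map_add' := map_add _
  map_smul' a s := (Scheme.Modules.map_smul F (homOfLE e) a s).trans (by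
    rw [RingHom.id_apply, ← algebraMap_smul Γ(X, W) a (F.presheaf.map (homOfLE e).op s), h])

theorem isLocalizedModule_secRes (F : X.Modules) [F.IsQuasicoherent] {U : X.Opens} (hU : IsAffineOpen U)
    (g : Γ(X, U)) [Algebra Γ(X, U) Γ(X, X.basicOpen g)] [Module Γ(X, U) Γ(F, X.basicOpen g)]
    [IsScalarTower Γ(X, U) Γ(X, X.basicOpen g) Γ(F, X.basicOpen g)]
    (h : algebraMap Γ(X, U) Γ(X, X.basicOpen g) = (X.presheaf.map (homOfLE (X.basicOpen_le g)).op).hom) :
    IsLocalizedModule (Submonoid.powers g) (secRes F (X.basicOpen_le g) h) := by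
  obtain ⟨hl, hs⟩ := GrothLib.QCoh.smulLift_and_smulSep_of_isAffineOpen hU F g
  have hu : IsUnit (algebraMap Γ(X, U) Γ(X, X.basicOpen g) g) := by
    rw [h]; exact RingedSpace.isUnit_res_basicOpen X.toRingedSpace g
  refine IsLocalizedModule.Away.mk_of_addCommGroup ?_ ?_ ?_
  · rw [Module.End.isUnit_iff]
    obtain ⟨v, hv⟩ := hu
    have hgx : ∀ x : Γ(F, X.basicOpen g), algebraMap Γ(X, U) (Module.End Γ(X, U) Γ(F, X.basicOpen g)) g x =
        (v : Γ(X, X.basicOpen g)) • x := fun x => by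
      rw [Module.algebraMap_end_apply, ← algebraMap_smul Γ(X, X.basicOpen g) g, hv]
    refine ⟨fun a b hab => ?_, fun a => ⟨((v⁻¹ : _ˣ) : Γ(X, X.basicOpen g)) • a, ?_⟩⟩
    · rw [hgx, hgx] at hab
      have := congrArg (((v⁻¹ : _ˣ) : Γ(X, X.basicOpen g)) • ·) hab
      simpa [smul_smul] using this
    · rw [hgx, smul_smul, Units.mul_inv, one_smul]
  · intro x
    obtain ⟨n, t, ht⟩ := hl x
    refine ⟨n, t, ?_⟩
    rw [← algebraMap_smul Γ(X, X.basicOpen g) (g ^ n), map_pow, h]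
    exact ht.symm
  · intro x hx
    exact hs x hx

theorem algebraize_appLE {U : X.Opens} {V : S.Opens} (h : U ≤ f ⁻¹ᵁ V) :
    letI := (f.appLE V U h).hom.toAlgebra
    algebraMap Γ(S, V) Γ(X, U) = (f.appLE V U h).hom := rfl

/-- The condition passes to basic opens of the base. -/
theorem relFPOn_base [F.IsQuasicoherent] {U : X.affineOpens} {V : S.affineOpens}
    {h : (U : X.Opens) ≤ f ⁻¹ᵁ (V : S.Opens)} (hF : Flatn.RelFPOn f F U V h) (g : Γ(S, (V : S.Opens))) :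
    ∃ hle, Flatn.RelFPOn f F (X.affineBasicOpen (f.appLE V U h g)) (S.affineBasicOpen g) hle := by
  let a := f.appLE V U h g
  have hle : X.basicOpen a ≤ f ⁻¹ᵁ S.basicOpen g := by
    rw [show X.basicOpen a = _ from Scheme.basicOpen_appLE f (U : X.Opens) (V : S.Opens) h g]
    exact inf_le_right
  refine ⟨hle, ?_⟩
  rw [Flatn.relFPOn_iff] at hF ⊢
  letI := (f.appLE V U h).hom.toAlgebra
  letI := (f.appLE (S.basicOpen g) (X.basicOpen a) hle).hom.toAlgebra
  letI := (S.presheaf.map (homOfLE (S.basicOpen_le g)).op).hom.toAlgebra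
  letI := (X.presheaf.map (homOfLE (X.basicOpen_le a)).op).hom.toAlgebra
  letI algR : Algebra Γ(S, (V : S.Opens)) Γ(X, X.basicOpen a) :=
    ((algebraMap Γ(X, (U : X.Opens)) Γ(X, X.basicOpen a)).comp
      (algebraMap Γ(S, (V : S.Opens)) Γ(X, (U : X.Opens)))).toAlgebra
  haveI : IsScalarTower Γ(S, (V : S.Opens)) Γ(X, (U : X.Opens)) Γ(X, X.basicOpen a) :=
    IsScalarTower.of_algebraMap_eq fun _ => rfl
  haveI : IsScalarTower Γ(S, (V : S.Opens)) Γ(S, S.basicOpen g) Γ(X, X.basicOpen a) :=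
    IsScalarTower.of_algebraMap_eq' (by
      show (f.appLE V U h ≫ X.presheaf.map (homOfLE (X.basicOpen_le a)).op).hom =
        (S.presheaf.map (homOfLE (S.basicOpen_le g)).op ≫ f.appLE (S.basicOpen g) (X.basicOpen a) hle).hom
      rw [Scheme.Hom.appLE_map, Scheme.Hom.map_appLE])
  haveI : IsLocalization.Away g Γ(S, S.basicOpen g) := V.2.isLocalization_basicOpen g
  haveI hlocA : IsLocalization.Away a Γ(X, X.basicOpen a) := U.2.isLocalization_basicOpen a
  haveI : IsLocalization (Algebra.algebraMapSubmonoid Γ(X, (U : X.Opens)) (Submonoid.powers g))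
      Γ(X, X.basicOpen a) := by
    rw [Algebra.algebraMapSubmonoid, Submonoid.map_powers]
    exact hlocA
  haveI : Algebra.IsPushout Γ(S, (V : S.Opens)) Γ(X, (U : X.Opens)) Γ(S, S.basicOpen g) Γ(X, X.basicOpen a) :=
    Algebra.isPushout_of_isLocalization (Submonoid.powers g) _ _ _
  letI : Module Γ(X, (U : X.Opens)) Γ(F, X.basicOpen a) :=
    Module.compHom _ (algebraMap Γ(X, (U : X.Opens)) Γ(X, X.basicOpen a))
  haveI : IsScalarTower Γ(X, (U : X.Opens)) Γ(X, X.basicOpen a) Γ(F, X.basicOpen a) :=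
    IsScalarTower.of_algebraMap_smul fun _ _ => rfl
  haveI := isLocalizedModule_secRes F U.2 a rfl
  show FlatCA.RelFinitePresentation Γ(S, S.basicOpen g) Γ(X, X.basicOpen a) Γ(F, X.basicOpen a)
  exact baseChange (R := Γ(S, (V : S.Opens))) (R' := Γ(S, S.basicOpen g)) (A' := Γ(X, X.basicOpen a))
    (M' := Γ(F, X.basicOpen a))
    (secRes F (X.basicOpen_le a) rfl)
    (IsLocalizedModule.isBaseChange (Submonoid.powers a) _ _) hF

/-- The condition passes to basic opens of the source. -/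
theorem relFPOn_source [F.IsQuasicoherent] {U : X.affineOpens} {V : S.affineOpens}
    {h : (U : X.Opens) ≤ f ⁻¹ᵁ (V : S.Opens)} (hF : Flatn.RelFPOn f F U V h) (a : Γ(X, (U : X.Opens))) :
    Flatn.RelFPOn f F (X.affineBasicOpen a) V ((X.basicOpen_le a).trans h) := by
  rw [Flatn.relFPOn_iff] at hF ⊢
  letI := (f.appLE V U h).hom.toAlgebra
  letI := (f.appLE V (X.basicOpen a) ((X.basicOpen_le a).trans h)).hom.toAlgebra
  letI := (X.presheaf.map (homOfLE (X.basicOpen_le a)).op).hom.toAlgebra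
  haveI : IsScalarTower Γ(S, (V : S.Opens)) Γ(X, (U : X.Opens)) Γ(X, X.basicOpen a) :=
    IsScalarTower.of_algebraMap_eq' (by
      show (f.appLE V (X.basicOpen a) _).hom = (f.appLE V U h ≫ X.presheaf.map (homOfLE (X.basicOpen_le a)).op).hom
      rw [Scheme.Hom.appLE_map])
  haveI : IsLocalization.Away a Γ(X, X.basicOpen a) := U.2.isLocalization_basicOpen a
  haveI : Algebra.FinitePresentation Γ(X, (U : X.Opens)) Γ(X, X.basicOpen a) :=
    IsLocalization.Away.finitePresentation a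
  letI : Module Γ(X, (U : X.Opens)) Γ(F, X.basicOpen a) :=
    Module.compHom _ (algebraMap Γ(X, (U : X.Opens)) Γ(X, X.basicOpen a))
  haveI : IsScalarTower Γ(X, (U : X.Opens)) Γ(X, X.basicOpen a) Γ(F, X.basicOpen a) :=
    IsScalarTower.of_algebraMap_smul fun _ _ => rfl
  haveI := isLocalizedModule_secRes F U.2 a rfl
  show FlatCA.RelFinitePresentation Γ(S, (V : S.Opens)) Γ(X, X.basicOpen a) Γ(F, X.basicOpen a)
  exact extendAlgebra (M' := Γ(F, X.basicOpen a)) (secRes F (X.basicOpen_le a) rfl)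
    (IsLocalizedModule.isBaseChange (Submonoid.powers a) _ _) hF

/-- A basic open of the base can be replaced by the base. -/
theorem relFPOn_of_base {U : X.affineOpens} {V : S.affineOpens} (g : Γ(S, (V : S.Opens)))
    {h : (U : X.Opens) ≤ f ⁻¹ᵁ S.basicOpen g} (hF : Flatn.RelFPOn f F U (S.affineBasicOpen g) h) :
    Flatn.RelFPOn f F U V (h.trans (f.preimage_mono (S.basicOpen_le g))) := by
  rw [Flatn.relFPOn_iff] at hF ⊢
  letI := (f.appLE (S.basicOpen g) U h).hom.toAlgebra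
  letI := (f.appLE V U (h.trans (f.preimage_mono (S.basicOpen_le g)))).hom.toAlgebra
  letI := (S.presheaf.map (homOfLE (S.basicOpen_le g)).op).hom.toAlgebra
  haveI : IsScalarTower Γ(S, (V : S.Opens)) Γ(S, S.basicOpen g) Γ(X, (U : X.Opens)) :=
    IsScalarTower.of_algebraMap_eq' (by
      show (f.appLE V U _).hom = (S.presheaf.map (homOfLE (S.basicOpen_le g)).op ≫ f.appLE (S.basicOpen g) U h).hom
      rw [Scheme.Hom.map_appLE])
  haveI : IsLocalization.Away g Γ(S, S.basicOpen g) := V.2.isLocalization_basicOpen g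
  haveI : Algebra.FinitePresentation Γ(S, (V : S.Opens)) Γ(S, S.basicOpen g) :=
    IsLocalization.Away.finitePresentation g
  haveI : FlatCA.RelFinitePresentation Γ(S, S.basicOpen g) Γ(X, (U : X.Opens)) Γ(F, (U : X.Opens)) := hF
  exact restrictBase (R' := Γ(S, S.basicOpen g)) this

theorem relFPOn_congr {U U' : X.affineOpens} {V V' : S.affineOpens} (eU : (U : X.Opens) = U')
    (eV : (V : S.Opens) = V') {h : (U : X.Opens) ≤ f ⁻¹ᵁ (V : S.Opens)} (hF : Flatn.RelFPOn f F U V h)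
    (h' : (U' : X.Opens) ≤ f ⁻¹ᵁ (V' : S.Opens)) : Flatn.RelFPOn f F U' V' h' := by
  obtain rfl := Subtype.ext eU
  obtain rfl := Subtype.ext eV
  exact hF

/-- The condition at a point, on some pair of affine opens. -/
def RelFPAt (f : X ⟶ S) (F : X.Modules) (x : X) : Prop :=
  ∃ (U : X.affineOpens) (V : S.affineOpens) (h : (U : X.Opens) ≤ f ⁻¹ᵁ (V : S.Opens)),
    x ∈ (U : X.Opens) ∧ Flatn.RelFPOn f F U V h

/-- The condition can be tested on one pair around every point. -/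
theorem relFPOn_of_forall_at [LocallyOfFiniteType f] [F.IsQuasicoherent] (U : X.affineOpens)
    (V : S.affineOpens) (h : (U : X.Opens) ≤ f ⁻¹ᵁ (V : S.Opens))
    (hF : ∀ x ∈ (U : X.Opens), RelFPAt f F x) : Flatn.RelFPOn f F U V h := by
  have key : ∀ x : (U : X.Opens), ∃ a : Γ(X, (U : X.Opens)), x.1 ∈ X.basicOpen a ∧
      Flatn.RelFPOn f F (X.affineBasicOpen a) V ((X.basicOpen_le a).trans h) := by
    rintro ⟨x, hx⟩
    obtain ⟨U₀, V₀, h₀, hx₀, hF₀⟩ := hF x hx
    obtain ⟨g, g₀, hg, hxg⟩ := exists_basicOpen_le_affine_inter V.2 V₀.2 (f x) ⟨h hx, h₀ hx₀⟩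
    obtain ⟨hle₁, h₁⟩ := relFPOn_base hF₀ g₀
    have hx₁ : x ∈ X.basicOpen (f.appLE V₀ U₀ h₀ g₀) := by
      rw [Scheme.basicOpen_appLE]
      exact ⟨hx₀, hg ▸ hxg⟩
    obtain ⟨a, a₁, ha, hxa⟩ := exists_basicOpen_le_affine_inter U.2
      (U₀.2.basicOpen (f.appLE V₀ U₀ h₀ g₀)) x ⟨hx, hx₁⟩
    refine ⟨a, hxa, ?_⟩
    have h₂ := relFPOn_source h₁ a₁
    have h₃ : (X.affineBasicOpen a : X.Opens) ≤ f ⁻¹ᵁ S.basicOpen g := by
      show X.basicOpen a ≤ _
      rw [ha, hg]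
      exact (X.basicOpen_le a₁).trans hle₁
    exact relFPOn_of_base g (h := h₃)
      (relFPOn_congr (U' := X.affineBasicOpen a) (V' := S.affineBasicOpen g) ha.symm hg.symm h₂ h₃)
  choose a hxa hFa using key
  obtain ⟨s, hs⟩ := U.2.isCompact.elim_finite_subcover (fun x : (U : X.Opens) => (X.basicOpen (a x) : Set X))
    (fun x => (X.basicOpen (a x)).isOpen) (fun x hx => Set.mem_iUnion.2 ⟨⟨x, hx⟩, hxa ⟨x, hx⟩⟩)
  let b : Fin s.card → Γ(X, (U : X.Opens)) := fun i => a (s.equivFin.symm i).1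
  have hspan : Ideal.span (Set.range b) = ⊤ := by
    refine (IsAffineOpen.iSup_basicOpen_eq_self_iff U.2).1 (le_antisymm (iSup_le fun i => X.basicOpen_le _) ?_)
    intro x hx
    obtain ⟨y, hy, hxy⟩ := Set.mem_iUnion₂.1 (hs hx)
    refine Opens.mem_iSup.2 ⟨⟨b (s.equivFin ⟨y, hy⟩), ⟨_, rfl⟩⟩, ?_⟩
    simpa [b] using hxy
  rw [Flatn.relFPOn_iff]
  letI := (f.appLE V U h).hom.toAlgebra
  haveI : Algebra.FiniteType Γ(S, (V : S.Opens)) Γ(X, (U : X.Opens)) :=
    f.finiteType_appLE V.2 U.2 h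
  letI : ∀ i, Algebra Γ(X, (U : X.Opens)) Γ(X, X.basicOpen (b i)) := fun i =>
    (X.presheaf.map (homOfLE (X.basicOpen_le (b i))).op).hom.toAlgebra
  letI : ∀ i, Algebra Γ(S, (V : S.Opens)) Γ(X, X.basicOpen (b i)) := fun i =>
    (f.appLE V (X.basicOpen (b i)) ((X.basicOpen_le (b i)).trans h)).hom.toAlgebra
  haveI : ∀ i, IsScalarTower Γ(S, (V : S.Opens)) Γ(X, (U : X.Opens)) Γ(X, X.basicOpen (b i)) := fun i =>
    IsScalarTower.of_algebraMap_eq' (by
      show (f.appLE V (X.basicOpen (b i)) _).hom =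
        (f.appLE V U h ≫ X.presheaf.map (homOfLE (X.basicOpen_le (b i))).op).hom
      rw [Scheme.Hom.appLE_map])
  haveI : ∀ i, IsLocalization.Away (b i) Γ(X, X.basicOpen (b i)) := fun i => U.2.isLocalization_basicOpen (b i)
  letI : ∀ i, Module Γ(X, (U : X.Opens)) Γ(F, X.basicOpen (b i)) := fun i =>
    Module.compHom _ (algebraMap Γ(X, (U : X.Opens)) Γ(X, X.basicOpen (b i)))
  haveI : ∀ i, IsScalarTower Γ(X, (U : X.Opens)) Γ(X, X.basicOpen (b i)) Γ(F, X.basicOpen (b i)) :=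
    fun i => IsScalarTower.of_algebraMap_smul fun _ _ => rfl
  haveI := fun i => isLocalizedModule_secRes F U.2 (b i) rfl
  haveI hloc : ∀ i, IsLocalizedModule (Submonoid.powers (b i)) (secRes F (X.basicOpen_le (b i)) rfl) :=
    fun i => isLocalizedModule_secRes F U.2 (b i) rfl
  exact @of_cover Γ(S, (V : S.Opens)) Γ(X, (U : X.Opens)) _ _ _ Γ(F, (U : X.Opens)) _ _ _ _ b hspan
    (fun i => Γ(X, X.basicOpen (b i))) _ _ _ _ _ (fun i => Γ(F, X.basicOpen (b i))) _ _ _ _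
    (fun i => secRes F (X.basicOpen_le (b i)) rfl) hloc (fun i => hFa _)

theorem relFPAt_of_isRelFP (hF : Flatn.IsRelFP f F) (x : X) : RelFPAt f F x := by
  obtain ⟨𝒱, h𝒱, H⟩ := hF
  have hx : f x ∈ (⊤ : S.Opens) := trivial
  rw [← h𝒱] at hx
  obtain ⟨V, hV⟩ := Opens.mem_iSup.1 hx
  obtain ⟨hmem, hxV⟩ := Opens.mem_iSup.1 hV
  obtain ⟨𝒰, h𝒰, H'⟩ := H V hmem
  have hx' : x ∈ f ⁻¹ᵁ (V : S.Opens) := hxV
  rw [← h𝒰] at hx'
  obtain ⟨U, hU⟩ := Opens.mem_iSup.1 hx'
  obtain ⟨hUmem, hxU⟩ := Opens.mem_iSup.1 hU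
  have hUle : (U : X.Opens) ≤ f ⁻¹ᵁ (V : S.Opens) := h𝒰 ▸ le_biSup (fun U : X.affineOpens => (U : X.Opens)) hUmem
  exact ⟨U, V, hUle, hxU, H' U hUmem hUle⟩

theorem isRelFP_of_forall (hF : ∀ (U : X.affineOpens) (V : S.affineOpens)
    (h : (U : X.Opens) ≤ f ⁻¹ᵁ (V : S.Opens)), Flatn.RelFPOn f F U V h) : Flatn.IsRelFP f F := by
  refine ⟨Set.univ, ?_, fun V _ => ⟨{U | (U : X.Opens) ≤ f ⁻¹ᵁ (V : S.Opens)}, ?_, fun U _ h => hF U V h⟩⟩
  · simpa using iSup_affineOpens_eq_top S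
  · refine le_antisymm (iSup₂_le fun U hU => hU) fun x hx => ?_
    obtain ⟨_, ⟨W, hW, rfl⟩, hxW, hWle⟩ :=
      X.isBasis_affineOpens.exists_subset_of_mem_open hx (f ⁻¹ᵁ (V : S.Opens)).isOpen
    exact Opens.mem_iSup.2 ⟨⟨W, hW⟩, Opens.mem_iSup.2 ⟨hWle, hxW⟩⟩

theorem isRelFP_iff_forall [LocallyOfFiniteType f] [F.IsQuasicoherent] :
    Flatn.IsRelFP f F ↔ ∀ (U : X.affineOpens) (V : S.affineOpens)
      (h : (U : X.Opens) ≤ f ⁻¹ᵁ (V : S.Opens)), Flatn.RelFPOn f F U V h :=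
  ⟨fun hF U V h => relFPOn_of_forall_at U V h fun x _ => relFPAt_of_isRelFP hF x, isRelFP_of_forall⟩

theorem isRelFP_of_forall_at [LocallyOfFiniteType f] [F.IsQuasicoherent]
    (hF : ∀ x, RelFPAt f F x) : Flatn.IsRelFP f F :=
  isRelFP_iff_forall.2 fun U V h => relFPOn_of_forall_at U V h fun x _ => hF x

end GrothLib.RelFPSch6
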